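import Mathlib
import Groth.Prelude.Def_AlgSpInf


universe u

open CategoryTheory CategoryTheory.Limits AlgebraicGeometry Opposite

namespace Groth.Agent.H4.AlgSpInf

open AlgSp

variable {S : Scheme.{u}}

/-- change the morphism of a lifting square, keeping the ring data -/
def InfSq.mk' {F G F' G' : Sp S} {f : F ⟶ G} (sq : InfSq f) {f' : F' ⟶ G'}
    (top : (yon S).obj sq.ptT ⟶ F') (bot : (yon S).obj sq.ptT' ⟶ G')
    (comm : top ≫ f' = (yon S).map sq.j ≫ bot) : InfSq f' where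
  A := sq.A
  I := sq.I
  sq_zero := sq.sq_zero
  str := sq.str
  top := top
  bot := bot
  comm := comm

theorem IsFormallySmoothMor.lift {F G F' G' : Sp S} {f : F ⟶ G} {f' : F' ⟶ G'}
    (hf' : IsFormallySmoothMor f') (sq : InfSq f)
    (top : (yon S).obj sq.ptT ⟶ F') (bot : (yon S).obj sq.ptT' ⟶ G')
    (comm : top ≫ f' = (yon S).map sq.j ≫ bot) :
    ∃ l : (yon S).obj sq.ptT' ⟶ F', (yon S).map sq.j ≫ l = top ∧ l ≫ f' = bot :=
  hf' (InfSq.mk' sq top bot comm)

theorem IsFormallyUnramifiedMor.uniq {F G F' G' : Sp S} {f : F ⟶ G} {f' : F' ⟶ G'}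
    (hf' : IsFormallyUnramifiedMor f') (sq : InfSq f)
    (l l' : (yon S).obj sq.ptT' ⟶ F') (h1 : (yon S).map sq.j ≫ l = (yon S).map sq.j ≫ l')
    (h2 : l ≫ f' = l' ≫ f') : l = l' :=
  hf' (InfSq.mk' sq ((yon S).map sq.j ≫ l) (l ≫ f') (by rw [Category.assoc])) l l' rfl rfl
    h1.symm h2.symm

theorem isFormallySmoothMor_iff {F G : Sp S} (f : F ⟶ G) :
    IsFormallySmoothMor f ↔ ∀ sq : InfSq f,
      ∃ l : (yon S).obj sq.ptT' ⟶ F, (yon S).map sq.j ≫ l = sq.top ∧ l ≫ f = sq.bot := Iff.rfl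

theorem isFormallyUnramifiedMor_iff {F G : Sp S} (f : F ⟶ G) :
    IsFormallyUnramifiedMor f ↔ ∀ (sq : InfSq f) (l l' : (yon S).obj sq.ptT' ⟶ F),
      (yon S).map sq.j ≫ l = (yon S).map sq.j ≫ l' → l ≫ f = l' ≫ f → l = l' := by
  constructor
  · intro h sq l l' h1 h2
    exact IsFormallyUnramifiedMor.uniq h sq l l' h1 h2
  · intro h sq l l' h1 h2 h3 h4
    exact h sq l l' (h1.trans h3.symm) (h2.trans h4.symm)

theorem isFormallyEtaleMor_iff {F G : Sp S} (f : F ⟶ G) :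
    IsFormallyEtaleMor f ↔ IsFormallySmoothMor f ∧ IsFormallyUnramifiedMor f := by
  constructor
  · intro h
    refine ⟨fun sq => ?_, fun sq => ?_⟩
    · obtain ⟨l, hl, -⟩ := h sq
      exact ⟨l, hl⟩
    · intro l l' h1 h2 h3 h4
      obtain ⟨l₀, -, hu⟩ := h sq
      rw [hu l ⟨h1, h2⟩, hu l' ⟨h3, h4⟩]
  · rintro ⟨h1, h2⟩ sq
    obtain ⟨l, hl⟩ := h1 sq
    exact ⟨l, hl, fun l' hl' => h2 sq l' l hl'.1 hl'.2 hl.1 hl.2⟩

theorem formallySmooth_comp {F G H : Sp S} (a : F ⟶ G) (b : G ⟶ H)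
    (ha : IsFormallySmoothMor a) (hb : IsFormallySmoothMor b) : IsFormallySmoothMor (a ≫ b) := by
  intro sq
  obtain ⟨lb, hlb1, hlb2⟩ := IsFormallySmoothMor.lift hb sq (sq.top ≫ a) sq.bot (by
    rw [Category.assoc]; exact sq.comm)
  obtain ⟨l, hl1, hl2⟩ := IsFormallySmoothMor.lift ha sq sq.top lb hlb1.symm
  exact ⟨l, hl1, by rw [← Category.assoc, hl2]; exact hlb2⟩

theorem formallyUnramified_comp {F G H : Sp S} (a : F ⟶ G) (b : G ⟶ H)
    (ha : IsFormallyUnramifiedMor a) (hb : IsFormallyUnramifiedMor b) :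
    IsFormallyUnramifiedMor (a ≫ b) := by
  rw [isFormallyUnramifiedMor_iff]
  intro sq l l' h1 h2
  have hb' : l ≫ a = l' ≫ a := IsFormallyUnramifiedMor.uniq hb sq (l ≫ a) (l' ≫ a)
    (by rw [← Category.assoc, ← Category.assoc, h1])
    (by rw [Category.assoc, Category.assoc]; exact h2)
  exact IsFormallyUnramifiedMor.uniq ha sq l l' h1 hb'

theorem formallyEtale_comp {F G H : Sp S} (a : F ⟶ G) (b : G ⟶ H)
    (ha : IsFormallyEtaleMor a) (hb : IsFormallyEtaleMor b) : IsFormallyEtaleMor (a ≫ b) := by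
  rw [isFormallyEtaleMor_iff] at *
  exact ⟨formallySmooth_comp a b ha.1 hb.1, formallyUnramified_comp a b ha.2 hb.2⟩

/-- permanence -/
theorem formallyUnramified_of_comp {F G H : Sp S} (a : F ⟶ G) (b : G ⟶ H)
    (h : IsFormallyUnramifiedMor (a ≫ b)) : IsFormallyUnramifiedMor a := by
  rw [isFormallyUnramifiedMor_iff]
  intro sq l l' h1 h2
  exact IsFormallyUnramifiedMor.uniq h sq l l' h1 (by
    rw [← Category.assoc, ← Category.assoc, h2])

theorem formallySmooth_of_comp {F G H : Sp S} (a : F ⟶ G) (b : G ⟶ H)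
    (hb : IsFormallyUnramifiedMor b)
    (h : IsFormallySmoothMor (a ≫ b)) : IsFormallySmoothMor a := by
  intro sq
  obtain ⟨l, hl1, hl2⟩ := IsFormallySmoothMor.lift h sq sq.top (sq.bot ≫ b) (by
    rw [← Category.assoc, sq.comm, Category.assoc])
  refine ⟨l, hl1, ?_⟩
  exact IsFormallyUnramifiedMor.uniq hb sq (l ≫ a) sq.bot
    (by rw [← Category.assoc, hl1]; exact sq.comm)
    (by rw [Category.assoc]; exact hl2)

theorem formallyEtale_of_comp {F G H : Sp S} (a : F ⟶ G) (b : G ⟶ H)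
    (hb : IsFormallyUnramifiedMor b)
    (h : IsFormallyEtaleMor (a ≫ b)) : IsFormallyEtaleMor a := by
  rw [isFormallyEtaleMor_iff] at *
  exact ⟨formallySmooth_of_comp a b hb h.1, formallyUnramified_of_comp a b h.2⟩

/-- base change -/
theorem formallySmooth_baseChange {F G H P : Sp S} (a : F ⟶ G) (b : H ⟶ G)
    (b' : P ⟶ F) (a' : P ⟶ H) (hP : IsPullback b' a' a b) (ha : IsFormallySmoothMor a) :
    IsFormallySmoothMor a' := by
  intro sq
  obtain ⟨l, hl1, hl2⟩ := IsFormallySmoothMor.lift ha sq (sq.top ≫ b') (sq.bot ≫ b) (by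
    rw [Category.assoc, hP.w, ← Category.assoc, sq.comm, Category.assoc])
  refine ⟨hP.lift l sq.bot hl2, ?_, hP.lift_snd _ _ _⟩
  apply hP.hom_ext
  · rw [Category.assoc, hP.lift_fst, hl1]
  · rw [Category.assoc, hP.lift_snd]
    exact sq.comm.symm

theorem formallyUnramified_baseChange {F G H P : Sp S} (a : F ⟶ G) (b : H ⟶ G)
    (b' : P ⟶ F) (a' : P ⟶ H) (hP : IsPullback b' a' a b) (ha : IsFormallyUnramifiedMor a) :
    IsFormallyUnramifiedMor a' := by
  rw [isFormallyUnramifiedMor_iff]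
  intro sq l l' h1 h2
  apply hP.hom_ext
  · exact IsFormallyUnramifiedMor.uniq ha sq (l ≫ b') (l' ≫ b')
      (by rw [← Category.assoc, ← Category.assoc, h1])
      (by rw [Category.assoc, Category.assoc, hP.w, ← Category.assoc, ← Category.assoc, h2])
  · exact h2

theorem formallyEtale_baseChange {F G H P : Sp S} (a : F ⟶ G) (b : H ⟶ G)
    (b' : P ⟶ F) (a' : P ⟶ H) (hP : IsPullback b' a' a b) (ha : IsFormallyEtaleMor a) :
    IsFormallyEtaleMor a' := by
  rw [isFormallyEtaleMor_iff] at *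
  exact ⟨formallySmooth_baseChange a b b' a' hP ha.1, formallyUnramified_baseChange a b b' a' hP ha.2⟩

end Groth.Agent.H4.AlgSpInf
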